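import Groth.Agent.Lib.Hens.SmoothLift
import Groth.Agent.Lib.Hens.PairApi
import Mathlib

/-! # Smooth algebras lift along closed immersions

A smooth algebra over `A ⧸ I` is the reduction of a smooth `A`-algebra. The conormal idempotent of a
presentation is lifted to an étale neighbourhood, where it cuts out the lift.
-/

set_option autoImplicit false
set_option maxHeartbeats 1000000
universe u v w

open MvPolynomial TensorProduct KaehlerDifferential

namespace Groth.Agent.SmoothAlgLift6

/-- The quotient by equations whose Jacobian splits their idempotent relation is smooth. -/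
theorem smooth_quotient {A : Type u} [CommRing A] {S : Type u} [CommRing S] [Algebra A S]
    [Algebra.Smooth A S] {n m : ℕ} (b : Module.Basis (Fin n) S Ω[S⁄A]) (g : Fin m → S)
    (E : Matrix (Fin m) (Fin m) S) (hE : E * E = E) (hEg : E.mulVec g = g)
    (D : Matrix (Fin m) (Fin n) S) (hD : ∀ i, KaehlerDifferential.D A S (g i) = ∑ k, D i k • b k)
    (Z₀ : Matrix (Fin n) (Fin m) S) (hu : IsUnit (E * D * Z₀ * E + (1 - E)).det) :
    Algebra.Smooth A (S ⧸ Ideal.span (Set.range g)) := by
  classical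
  let K : Ideal S := Ideal.span (Set.range g)
  let R := S ⧸ K
  obtain ⟨M, hM'⟩ := (Matrix.isUnit_iff_isUnit_det (E * D * Z₀ * E + (1 - E))).mpr hu
  have hEM : E * (M : Matrix (Fin m) (Fin m) S) = E * D * Z₀ * E := by
    rw [hM']
    simp only [mul_add, mul_sub, ← Matrix.mul_assoc, hE, mul_one, sub_self, add_zero]
  have hME : (M : Matrix (Fin m) (Fin m) S) * E = E * D * Z₀ * E := by
    rw [hM']
    simp only [add_mul, sub_mul, Matrix.mul_assoc, hE, one_mul, sub_self, add_zero]
  let Z : Matrix (Fin n) (Fin m) S := Z₀ * E * (↑M⁻¹ : Matrix (Fin m) (Fin m) S)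
  have hEDZ : E * D * Z = E := by
    show E * D * (Z₀ * E * (↑M⁻¹ : Matrix (Fin m) (Fin m) S)) = E
    rw [← Matrix.mul_assoc, ← Matrix.mul_assoc, ← hEM]
    rw [Matrix.mul_assoc, Units.mul_inv, mul_one]
  have hmem : ∀ i, g i ∈ RingHom.ker (algebraMap S R) := fun i => by
    rw [RingHom.mem_ker, Ideal.Quotient.algebraMap_eq, Ideal.Quotient.eq_zero_iff_mem]
    exact Ideal.subset_span ⟨i, rfl⟩
  let N := (RingHom.ker (algebraMap S R)).Cotangent
  let gg : Fin m → N := fun i => Ideal.toCotangent _ ⟨g i, hmem i⟩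
  have hkill : ∀ r ∈ K, ∀ x : N, r • x = 0 := fun r hr x => by
    obtain ⟨y, rfl⟩ := Ideal.toCotangent_surjective _ x
    rw [← map_smul, Ideal.toCotangent_eq_zero, pow_two]
    refine Ideal.mul_mem_mul ?_ y.2
    rw [RingHom.mem_ker, Ideal.Quotient.algebraMap_eq, Ideal.Quotient.eq_zero_iff_mem]
    exact hr
  let ψ : Ω[S⁄A] →ₗ[S] N := b.constr ℕ fun k => ∑ j, Z k j • gg j
  let β : R →ₗ[S] Ω[S⁄A] →ₗ[S] N := Submodule.liftQ K (LinearMap.toSpanSingleton S _ ψ) fun r hr => by
    rw [LinearMap.mem_ker, LinearMap.toSpanSingleton_apply]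
    exact LinearMap.ext fun x => hkill r hr _
  let l : R ⊗[S] Ω[S⁄A] →ₗ[S] N := TensorProduct.lift β
  have hl : ∀ x : Ω[S⁄A], l (1 ⊗ₜ x) = ψ x := fun x => by
    exact LinearMap.congr_fun (one_smul S ψ) x
  have hψ : ∀ i, ψ (KaehlerDifferential.D A S (g i)) = ∑ j, (D * Z) i j • gg j := fun i => by
    rw [hD, map_sum]
    simp only [map_smul, ψ, Module.Basis.constr_basis, Finset.smul_sum, smul_smul, Matrix.mul_apply,
      Finset.sum_smul]
    exact Finset.sum_comm
  have hgg : ∀ i, gg i = ∑ j, E i j • gg j := fun i => by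
    simp only [gg, ← map_smul, ← map_sum]
    congr 1
    refine Subtype.ext ?_
    simpa [Matrix.mulVec, dotProduct] using (congrFun hEg i).symm
  have hkey : ∀ i, ψ (KaehlerDifferential.D A S (g i)) = gg i := fun i => by
    have h1 : ψ (KaehlerDifferential.D A S (g i)) =
        ∑ j, E i j • ψ (KaehlerDifferential.D A S (g j)) := by
      conv_lhs => rw [← congrFun hEg i]
      simp only [Matrix.mulVec, dotProduct, map_sum, Derivation.leibniz, map_add, map_smul]
      refine Finset.sum_congr rfl fun j _ => ?_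
      rw [hkill (g j) (Ideal.subset_span ⟨j, rfl⟩), add_zero]
    rw [h1]
    simp only [hψ, Finset.smul_sum, smul_smul]
    rw [Finset.sum_comm]
    refine Eq.trans (Finset.sum_congr rfl fun j _ => ?_) (hgg i).symm
    rw [← Finset.sum_smul, ← Matrix.mul_apply, ← Matrix.mul_assoc, hEDZ]
  haveI : Algebra.FinitePresentation A R :=
    Algebra.FinitePresentation.quotient (R := A) (A := S) ⟨Finset.univ.image g, by simp [K]⟩
  refine ⟨?_, inferInstance⟩
  refine (Algebra.FormallySmooth.iff_split_injection (R := A) (P := S) (A := R)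
    Ideal.Quotient.mk_surjective).mpr ⟨l, ?_⟩
  refine LinearMap.ext fun x => ?_
  obtain ⟨⟨y, hy⟩, rfl⟩ := Ideal.toCotangent_surjective _ x
  rw [LinearMap.comp_apply, LinearMap.id_apply, kerCotangentToTensor_toCotangent]
  have hyK : y ∈ K := by
    rw [RingHom.mem_ker, Ideal.Quotient.algebraMap_eq, Ideal.Quotient.eq_zero_iff_mem] at hy
    exact hy
  erw [hl]
  show ψ (KaehlerDifferential.D A S y) = _
  obtain ⟨c, rfl⟩ := Submodule.mem_span_range_iff_exists_fun S |>.mp hyK
  have : (⟨∑ i, c i • g i, hy⟩ : RingHom.ker (algebraMap S R)) = ∑ i, c i • ⟨g i, hmem i⟩ :=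
    Subtype.ext (by simp)
  rw [this, map_sum, map_sum, map_sum]
  refine Finset.sum_congr rfl fun i _ => ?_
  rw [show c i • g i = c i * g i from rfl, Derivation.leibniz, map_add, map_smul, map_smul, hkey,
    hkill (g i) (Ideal.subset_span ⟨i, rfl⟩), add_zero, map_smul]

section Basis

variable {A : Type u} [CommRing A] {n : ℕ} (S : Type u) [CommRing S] [Algebra A S]
  [Algebra (MvPolynomial (Fin n) A) S] [IsScalarTower A (MvPolynomial (Fin n) A) S]
  [Algebra.FormallyEtale (MvPolynomial (Fin n) A) S]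

/-- The differentials of the coordinates. -/
noncomputable def coordBasis : Module.Basis (Fin n) S Ω[S⁄A] :=
  ((mvPolynomialBasis A (Fin n)).baseChange S).map
    (tensorKaehlerEquivOfFormallyEtale A (MvPolynomial (Fin n) A) S)

theorem coordBasis_apply (k : Fin n) :
    coordBasis S k = KaehlerDifferential.D A S (algebraMap (MvPolynomial (Fin n) A) S (X k)) := by
  have hb : mvPolynomialBasis A (Fin n) k = KaehlerDifferential.D A _ (X k) :=
    (mvPolynomialBasis A (Fin n)).repr.injective (by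
      rw [Module.Basis.repr_self, mvPolynomialBasis_repr_D_X])
  rw [coordBasis, Module.Basis.map_apply, Module.Basis.baseChange_apply, hb,
    tensorKaehlerEquivOfFormallyEtale_apply, mapBaseChange_tmul, one_smul, map_D]

theorem D_algebraMap (p : MvPolynomial (Fin n) A) :
    KaehlerDifferential.D A S (algebraMap (MvPolynomial (Fin n) A) S p) =
      ∑ k, algebraMap (MvPolynomial (Fin n) A) S (pderiv k p) • coordBasis (A := A) (n := n) S k := by
  induction p using MvPolynomial.induction_on with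
  | C a =>
    rw [← MvPolynomial.algebraMap_eq, ← IsScalarTower.algebraMap_apply, Derivation.map_algebraMap]
    simp [MvPolynomial.algebraMap_eq]
  | add p q hp hq => simp only [map_add, hp, hq, add_smul, Finset.sum_add_distrib]
  | mul_X p i hp =>
    classical
    rw [map_mul, Derivation.leibniz, hp, ← coordBasis_apply S i]
    simp only [pderiv_mul, pderiv_X, map_add, map_mul, add_smul, Finset.sum_add_distrib,
      Finset.smul_sum, smul_smul, Pi.single_apply, apply_ite (algebraMap (MvPolynomial (Fin n) A) S),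
      map_one, map_zero, mul_ite, mul_one, mul_zero, ite_smul, zero_smul, Finset.sum_ite_eq',
      Finset.mem_univ, if_true, mul_comm]
    rw [add_comm]
    congr 1
    all_goals simp [mul_comm]

theorem exists_coeff (s : S) :
    ∃ c : Fin n → S, KaehlerDifferential.D A S s = ∑ k, c k • coordBasis (A := A) (n := n) S k :=
  ⟨fun k => (coordBasis S).repr (KaehlerDifferential.D A S s) k, ((coordBasis S).sum_repr _).symm⟩

end Basis

theorem pderiv_mem_map {A : Type u} [CommRing A] {n : ℕ} (I : Ideal A) {p : MvPolynomial (Fin n) A}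
    (hp : p ∈ I.map (algebraMap A (MvPolynomial (Fin n) A))) (k : Fin n) :
    pderiv k p ∈ I.map (algebraMap A (MvPolynomial (Fin n) A)) := by
  induction hp using Submodule.span_induction with
  | mem x hx => obtain ⟨a, -, rfl⟩ := hx; simp [MvPolynomial.algebraMap_eq]
  | zero => simp
  | add x y _ _ hx hy => rw [map_add]; exact add_mem hx hy
  | smul c x hx' hx =>
    rw [smul_eq_mul, pderiv_mul]
    exact add_mem (Ideal.mul_mem_left _ _ hx') (Ideal.mul_mem_left _ _ hx)

open Groth.Agent.Hens in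
theorem exists_nbhd_of_finset {P : Type u} [CommRing P] {J : Ideal P} {ι : Type w} (s : Finset ι)
    (x : ι → PHs J) :
    ∃ i : PNbhd J, ∀ a ∈ s, ∃ y : i.S, PHs.of i (algebraMap i.S i.G y) = x a := by
  classical
  induction s using Finset.induction with
  | empty => exact ⟨Classical.arbitrary _, by simp⟩
  | insert a s _ ih =>
    obtain ⟨i, hi⟩ := ih
    obtain ⟨j, y, hy⟩ := PHs.exists_of_S (x a)
    obtain ⟨k, φ, ψ, -, -⟩ := PNbhd.exists_upper i j
    refine ⟨k, fun c hc => ?_⟩
    rcases Finset.mem_insert.mp hc with rfl | hc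
    · refine ⟨ψ y, ?_⟩
      rw [← hy]
      exact congr($(PHs.algHom_eq j ((PHs.of k).comp ((IsScalarTower.toAlgHom P k.S k.G).comp ψ))
        ((PHs.of j).comp (IsScalarTower.toAlgHom P j.S j.G))) y)
    · obtain ⟨z, hz⟩ := hi c hc
      refine ⟨φ z, ?_⟩
      rw [← hz]
      exact congr($(PHs.algHom_eq i ((PHs.of k).comp ((IsScalarTower.toAlgHom P k.S k.G).comp φ))
        ((PHs.of i).comp (IsScalarTower.toAlgHom P i.S i.G))) z)

open Groth.Agent.Hens in
theorem exists_nbhd_eq_zero {P : Type u} [CommRing P] {J : Ideal P} {ι : Type w} (s : Finset ι)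
    (i : PNbhd J) (x : ι → i.S) (hx : ∀ a ∈ s, PHs.of i (algebraMap i.S i.G (x a)) = 0) :
    ∃ (j : PNbhd J) (φ : i.S →ₐ[P] j.S), ∀ a ∈ s, φ (x a) = 0 := by
  classical
  induction s using Finset.induction with
  | empty => exact ⟨i, AlgHom.id _ _, by simp⟩
  | insert a s _ ih =>
    obtain ⟨j, φ, hφ⟩ := ih fun c hc => hx c (Finset.mem_insert_of_mem hc)
    have h0 : PHs.of j (algebraMap j.S j.G (φ (x a))) = 0 := by
      rw [← hx a (Finset.mem_insert_self _ _)]
      exact congr($(PHs.algHom_eq i ((PHs.of j).comp ((IsScalarTower.toAlgHom P j.S j.G).comp φ))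
        ((PHs.of i).comp (IsScalarTower.toAlgHom P i.S i.G))) (x a))
    obtain ⟨k, ψ, hψ⟩ := PHs.exists_eq_zero j _ h0
    refine ⟨k, ψ.comp φ, fun c hc => ?_⟩
    rcases Finset.mem_insert.mp hc with rfl | hc
    · exact hψ
    · simp [hφ c hc]

open Groth.Agent.Hens in
/-- An idempotent matrix modulo an ideal lifts to an étale neighbourhood. -/
theorem exists_nbhd_idempotent_matrix {P : Type u} [CommRing P] (J : Ideal P) {m : ℕ}
    (t : Matrix (Fin m) (Fin m) P) (ht : ∀ i j, (t * t - t) i j ∈ J) :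
    ∃ (N : PNbhd J) (E : Matrix (Fin m) (Fin m) N.S),
      E * E = E ∧ ∀ i j, N.σ (E i j) = Ideal.Quotient.mk J (t i j) := by
  classical
  let ρ := algebraMap P (PHs J)
  obtain ⟨Q, hQ, hQt⟩ := exists_idempotent_matrix_lift PHs.henselianRing (t.map ρ) fun i j => by
    rw [← Matrix.map_mul, ← Matrix.map_sub _ (map_sub ρ), Matrix.map_apply]
    exact Ideal.mem_map_of_mem ρ (ht i j)
  obtain ⟨N₀, hN₀⟩ := exists_nbhd_of_finset Finset.univ fun p : Fin m × Fin m => Q p.1 p.2
  choose y hy using fun p => hN₀ p (Finset.mem_univ p)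
  let E₀ : Matrix (Fin m) (Fin m) N₀.S := Matrix.of fun i j => y (i, j)
  let f : N₀.S →+* PHs J := (PHs.of N₀).toRingHom.comp (algebraMap N₀.S N₀.G)
  have hfE : E₀.map f = Q := by ext i j; exact hy (i, j)
  have hzero : ∀ p : Fin m × Fin m, f ((E₀ * E₀ - E₀) p.1 p.2) = 0 := fun p => by
    show ((E₀ * E₀ - E₀).map f) p.1 p.2 = 0
    rw [Matrix.map_sub _ (map_sub f), Matrix.map_mul, hfE, hQ, sub_self]
    rfl
  obtain ⟨N, φ, hφ⟩ := exists_nbhd_eq_zero Finset.univ N₀
    (fun p : Fin m × Fin m => (E₀ * E₀ - E₀) p.1 p.2) fun p _ => hzero p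
  refine ⟨N, E₀.map φ, ?_, fun i j => ?_⟩
  · rw [← Matrix.map_mul, ← sub_eq_zero, ← Matrix.map_sub _ (map_sub φ)]
    ext i j
    exact hφ (i, j) (Finset.mem_univ _)
  · have h1 : PHs.of N (algebraMap N.S N.G (φ (y (i, j)))) = Q i j := by
      rw [← hy (i, j)]
      exact congr($(PHs.algHom_eq N₀ ((PHs.of N).comp ((IsScalarTower.toAlgHom P N.S N.G).comp φ))
        ((PHs.of N₀).comp (IsScalarTower.toAlgHom P N₀.S N₀.G))) (y (i, j)))
    have h2 : PHs.res (Q i j) = Ideal.Quotient.mk J (t i j) := by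
      have h3 : Q i j - ρ (t i j) ∈ RingHom.ker (PHs.res : PHs J →ₐ[P] P ⧸ J) :=
        PHs.ker_res.ge (hQt i j)
      rw [RingHom.mem_ker, map_sub, AlgHom.commutes, sub_eq_zero] at h3
      exact h3
    rw [← h2, ← h1, PHs.res_of, PNbhd.res_algebraMap]
    rfl

open MvPolynomial in
theorem exists_taylor_relation {R C : Type u} [CommRing R] [CommRing C] [Algebra R C]
    [Algebra.FormallySmooth R C] {n : ℕ} (πb : MvPolynomial (Fin n) R →ₐ[R] C)
    (hπb : Function.Surjective πb) :
    ∃ g : Fin n → MvPolynomial (Fin n) R, (∀ k, g k ∈ RingHom.ker πb) ∧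
      ∀ p ∈ RingHom.ker πb, p - ∑ k, pderiv k p * g k ∈ RingHom.ker πb * RingHom.ker πb := by
  let Jb : Ideal (MvPolynomial (Fin n) R) := RingHom.ker πb
  let π₁ : (MvPolynomial (Fin n) (R) ⧸ Jb * Jb) →ₐ[R] C :=
    Ideal.Quotient.liftₐ (Jb * Jb) πb fun a ha => Ideal.mul_le_left ha
  have hπ₁ : Function.Surjective π₁ := fun s => by
    obtain ⟨x, rfl⟩ := hπb s
    exact ⟨Ideal.Quotient.mk _ x, rfl⟩
  have hnil : IsNilpotent (RingHom.ker π₁) := by
    refine ⟨2, ?_⟩
    have : RingHom.ker π₁ = Jb.map (Ideal.Quotient.mk (Jb * Jb)) := by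
      ext x
      obtain ⟨x, rfl⟩ := Ideal.Quotient.mk_surjective x
      rw [Ideal.mem_quotient_iff_mem Ideal.mul_le_left]
      rfl
    rw [this]
    rw [Submodule.pow_succ, Submodule.pow_one]
    rw [← Ideal.map_mul, Ideal.map_quotient_self]
    rfl
  let s := Algebra.FormallySmooth.liftOfSurjective (AlgHom.id (R) C) π₁ hπ₁ (by exact hnil)
  choose y hy using fun k => Ideal.Quotient.mk_surjective (s (πb (X k)))
  let g : Fin n → MvPolynomial (Fin n) (R) := fun k => X k - y k
  have hg : ∀ k, g k ∈ Jb := by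
    intro k
    show πb (X k - y k) = 0
    have := congrArg π₁ (hy k)
    rw [Algebra.FormallySmooth.liftOfSurjective_apply] at this
    rw [map_sub, sub_eq_zero]
    exact this.symm
  have hgJ : ∀ p ∈ Jb, p - ∑ k, pderiv k p * g k ∈ Jb * Jb := by
    intro p hp
    have hcomp : s.comp πb = (Ideal.Quotient.mkₐ (R) (Jb * Jb)).comp
        (aeval (fun k => X k - g k)) :=
      MvPolynomial.algHom_ext fun k => by
        simp only [AlgHom.comp_apply, aeval_X, g, sub_sub_cancel]
        exact (hy k).symm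
    have h0 : aeval (fun k => X k - g k) p ∈ Jb * Jb := by
      have := congr($hcomp p)
      simp only [AlgHom.comp_apply, show πb p = 0 from hp, map_zero] at this
      exact Ideal.Quotient.eq_zero_iff_mem.mp this.symm
    have := sub_mem h0 (Hens.taylor_mem_sq Jb g hg p)
    rwa [sub_sub_cancel] at this
  exact ⟨g, hg, hgJ⟩

theorem sum_smul_add {R M : Type u} [CommRing R] [AddCommGroup M] [Module R M] {m : ℕ}
    (u x v y : Fin m → R) (b : M) :
    (∑ j, u j • x j • b) + ∑ j, v j • y j • b = (∑ j, u j * x j + ∑ j, v j * y j) • b := by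
  simp only [add_smul, Finset.sum_smul, smul_smul]

section Main

variable (A : Type u) [CommRing A] (I : Ideal A) (C : Type u) [CommRing C] [Algebra A C]
  [Algebra (A ⧸ I) C] [IsScalarTower A (A ⧸ I) C] [Algebra.Smooth (A ⧸ I) C]

theorem exists_presentation :
    ∃ (n m : ℕ) (π : MvPolynomial (Fin n) A →ₐ[A] C) (f : Fin m → MvPolynomial (Fin n) A)
      (a : Matrix (Fin n) (Fin m) (MvPolynomial (Fin n) A)),
      Function.Surjective π ∧
      RingHom.ker π = Ideal.span (Set.range f) ⊔ I.map (algebraMap A (MvPolynomial (Fin n) A)) ∧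
      ∀ i, f i - ∑ j, ((Matrix.of fun i k => pderiv k (f i)) * a) i j * f j ∈
        RingHom.ker π * RingHom.ker π ⊔ I.map (algebraMap A (MvPolynomial (Fin n) A)) := by
  classical
  obtain ⟨n, πb, hπb, hJfg⟩ := Algebra.FinitePresentation.out (R := A ⧸ I) (A := C)
  let Jb : Ideal (MvPolynomial (Fin n) (A ⧸ I)) := RingHom.ker πb
  have hJfg : Jb.FG := hJfg
  let μ : (MvPolynomial (Fin n) A) →+* MvPolynomial (Fin n) (A ⧸ I) := MvPolynomial.map (Ideal.Quotient.mk I)
  have hμ : Function.Surjective μ :=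
    MvPolynomial.map_surjective _ Ideal.Quotient.mk_surjective
  have hkμ : RingHom.ker μ = I.map (algebraMap A (MvPolynomial (Fin n) A)) := by
    rw [MvPolynomial.ker_map, Ideal.mk_ker]; rfl
  let π : (MvPolynomial (Fin n) A) →ₐ[A] C := MvPolynomial.aeval fun k => πb (X k)
  have hπ : ∀ p, π p = πb (μ p) := fun p => by
    have : π.toRingHom = πb.toRingHom.comp μ := MvPolynomial.ringHom_ext
      (fun r => by
        show MvPolynomial.aeval (fun k => πb (X k)) (MvPolynomial.C r) = πb (MvPolynomial.map _ (MvPolynomial.C r))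
        rw [MvPolynomial.aeval_C, MvPolynomial.map_C, IsScalarTower.algebraMap_apply A (A ⧸ I) C,
          Ideal.Quotient.algebraMap_eq]
        exact (πb.commutes _).symm)
      (fun k => by
        show MvPolynomial.aeval (fun k => πb (X k)) (X k) = πb (MvPolynomial.map _ (X k))
        rw [MvPolynomial.aeval_X, MvPolynomial.map_X])
    exact congr($this p)
  obtain ⟨m, fb, hfb⟩ := Submodule.fg_iff_exists_fin_generating_family.mp hJfg
  choose f hf using fun i => hμ (fb i)
  have hker : RingHom.ker π = Ideal.span (Set.range f) ⊔ I.map (algebraMap A (MvPolynomial (Fin n) A)) := by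
    have h1 : RingHom.ker π = (Jb).comap μ := by
      ext p; rw [RingHom.mem_ker, hπ]; rfl
    have h2 : Jb = (Ideal.span (Set.range f)).map μ := by
      rw [Ideal.map_span, ← Set.range_comp, ← hfb]
      congr 1
      exact congrArg Set.range (funext fun i => (hf i).symm)
    rw [h1, h2, Ideal.comap_map_of_surjective _ hμ, ← hkμ]
    rfl
  obtain ⟨g, hg, hgJ⟩ := exists_taylor_relation πb hπb
  have hga : ∀ k, ∃ a : Fin m → MvPolynomial (Fin n) (A ⧸ I), ∑ j, a j • fb j = g k := fun k =>
    (Submodule.mem_span_range_iff_exists_fun _).mp (hfb.ge (hg k))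
  choose ab hab using hga
  choose a ha using fun k j => hμ (ab k j)
  refine ⟨n, m, π, f, Matrix.of a, fun c => ?_, hker, fun i => ?_⟩
  · obtain ⟨x, rfl⟩ := hπb c
    obtain ⟨x, rfl⟩ := hμ x
    exact ⟨x, hπ x⟩
  · have hJ2 : RingHom.ker π * RingHom.ker π ⊔ I.map (algebraMap A (MvPolynomial (Fin n) A)) = (Jb * Jb).comap μ := by
      have : Jb = (RingHom.ker π).map μ := by
        rw [show RingHom.ker π = Jb.comap μ by ext p; rw [RingHom.mem_ker, hπ]; rfl,
          Ideal.map_comap_of_surjective _ hμ]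
      rw [this, ← Ideal.map_mul, Ideal.comap_map_of_surjective _ hμ, ← hkμ]
      rfl
    rw [hJ2, Ideal.mem_comap, map_sub, map_sum, hf]
    have h3 := hgJ (fb i) (hfb.le (Submodule.subset_span ⟨i, rfl⟩))
    convert h3 using 2
    simp only [map_mul, Matrix.mul_apply, Matrix.of_apply, map_sum, hf, ha, ← hab,
      Finset.mul_sum, Finset.sum_mul, smul_eq_mul, μ, ← MvPolynomial.pderiv_map]
    rw [Finset.sum_comm]
    refine Finset.sum_congr rfl fun k _ => Finset.sum_congr rfl fun j _ => ?_
    rw [← hf i]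
    ring

theorem exists_smooth_lift :
    ∃ (R : Type u) (_ : CommRing R) (_ : Algebra A R) (_ : Algebra.Smooth A R) (φ : R →ₐ[A] C),
      Function.Surjective φ ∧ RingHom.ker φ = I.map (algebraMap A R) := by
  classical
  obtain ⟨n, m, π, f, a, hπ, hker, hrel⟩ := exists_presentation A I C
  let J : Ideal (MvPolynomial (Fin n) A) := RingHom.ker π
  let IP : Ideal (MvPolynomial (Fin n) A) := I.map (algebraMap A (MvPolynomial (Fin n) A))
  have hIJ : IP ≤ J := le_sup_right.trans hker.ge
  have hfJ : ∀ i, f i ∈ J := fun i => hker.ge (Ideal.mem_sup_left (Ideal.subset_span ⟨i, rfl⟩))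
  let Df : Matrix (Fin m) (Fin n) (MvPolynomial (Fin n) A) := Matrix.of fun i k => pderiv k (f i)
  let t : Matrix (Fin m) (Fin m) (MvPolynomial (Fin n) A) := Df * a
  let πm : (MvPolynomial (Fin n) A) →+* C := π.toRingHom
  have hπJ : ∀ x ∈ J, πm x = 0 := fun x hx => hx
  -- the Jacobian is fixed by the idempotent
  have hTD : (t * Df).map πm = Df.map πm := by
    ext i l
    have h1 : pderiv l (f i - ∑ j, t i j * f j) ∈ J := by
      obtain ⟨x, hx, y, hy, hxy⟩ := Submodule.mem_sup.mp (hrel i)
      rw [show (f i - ∑ j, t i j * f j) = x + y from hxy.symm, map_add]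
      exact add_mem (Hens.pderiv_mem_of_mem_sq J hx l) (hIJ (pderiv_mem_map I hy l))
    have h2 := hπJ _ h1
    simp only [map_sub, map_sum, Derivation.leibniz, smul_eq_mul, map_add, map_mul, hπJ _ (hfJ _),
      zero_mul, add_zero, sub_eq_zero] at h2
    simp only [Matrix.map_apply, Matrix.mul_apply, map_sum, map_mul]
    exact h2.symm
  have hTT : (t * t).map πm = t.map πm := by
    show (t * (Df * a)).map πm = (Df * a).map πm
    rw [← Matrix.mul_assoc, Matrix.map_mul, Matrix.map_mul (L := Df), hTD]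
  obtain ⟨N, E, hEE, hEt⟩ := exists_nbhd_idempotent_matrix J t fun i j => by
    show πm ((t * t - t) i j) = 0
    rw [Matrix.sub_apply, map_sub, show πm ((t * t) i j) = πm (t i j) from congr_fun₂ hTT i j,
      sub_self]
  let eC : ((MvPolynomial (Fin n) A) ⧸ J) ≃ₐ[A] C := Ideal.quotientKerAlgEquivOfSurjective hπ
  haveI : Algebra.Etale (MvPolynomial (Fin n) A) N.S := inferInstance
  let θ : N.S →ₐ[A] C := eC.toAlgHom.comp (N.σ.restrictScalars A)
  have hθ : ∀ p, θ (algebraMap (MvPolynomial (Fin n) A) N.S p) = π p := fun p => by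
    show eC (N.σ (algebraMap (MvPolynomial (Fin n) A) N.S p)) = π p
    rw [AlgHom.commutes]
    rfl
  have hkθ : RingHom.ker θ = J.map (algebraMap (MvPolynomial (Fin n) A) N.S) := by
    rw [← N.ker_σ]
    ext x
    show eC (N.σ x) = 0 ↔ N.σ x = 0
    exact map_eq_zero_iff _ eC.injective
  have hθE : ∀ i j, θ (E i j) = π (t i j) := fun i j => by
    show eC (N.σ (E i j)) = _
    rw [hEt]
    rfl
  choose c hc using fun i j => exists_coeff (A := A) (n := n) N.S (E i j)
  let ι := algebraMap (MvPolynomial (Fin n) A) N.S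
  let D : Matrix (Fin m) (Fin n) N.S :=
    Matrix.of fun i k => ∑ j, (E i j * ι (pderiv k (f j)) + ι (f j) * c i j k)
  let g : Fin m → N.S := E.mulVec (ι ∘ f)
  have hDg : ∀ i, KaehlerDifferential.D A N.S (g i) = ∑ k, D i k • coordBasis (A := A) (n := n) N.S k := fun i => by
    simp only [g, Matrix.mulVec, dotProduct, Function.comp_apply, map_sum, Derivation.leibniz]
    simp only [ι, D_algebraMap (A := A) (n := n) N.S, hc, D, Matrix.of_apply, Finset.sum_smul, Finset.smul_sum, smul_smul,
      add_smul, Finset.sum_add_distrib]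
    rw [Finset.sum_comm, Finset.sum_comm (f := fun x y => _ • c i x y • _)]
    rw [← Finset.sum_add_distrib]
    refine Finset.sum_congr rfl fun k _ => ?_
    exact sum_smul_add (fun x => E i x) _ (fun x => ι (f x)) _ _
  have hθD : D.map θ = Df.map πm := by
    rw [← hTD, Matrix.map_mul]
    ext i k
    simp only [Matrix.map_apply, Matrix.mul_apply, D, Matrix.of_apply, map_sum, map_add, map_mul, ι,
      hθ, hθE, hπJ _ (hfJ _)]
    refine Finset.sum_congr rfl fun j _ => ?_
    rw [show π (f j) = 0 from hfJ j, zero_mul, add_zero]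
    rfl
  let Z₀ : Matrix (Fin n) (Fin m) N.S := a.map ι
  let M := E * D * Z₀ * E + (1 - E)
  let δ := M.det
  have hδ : θ δ = 1 := by
    let θm : N.S →+* C := θ.toRingHom
    have hE' : E.map θm = t.map πm := by ext i j; exact hθE i j
    have hZ : Z₀.map θm = a.map πm := by ext k j; exact hθ _
    show θm δ = 1
    rw [show θm δ = (M.map θm).det from RingHom.map_det θm M]
    have : M.map θm = 1 := by
      simp only [M, Matrix.map_add _ (map_add θm), Matrix.map_sub _ (map_sub θm), Matrix.map_mul,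
        Matrix.map_one _ (map_zero θm) (map_one θm), hE', hZ,
        show D.map θm = Df.map πm from hθD]
      rw [show t.map πm * Df.map πm = Df.map πm by rw [← Matrix.map_mul, hTD],
        show Df.map πm * a.map πm = t.map πm by rw [← Matrix.map_mul],
        show t.map πm * t.map πm = t.map πm by rw [← Matrix.map_mul, hTT]]
      simp
    rw [this, Matrix.det_one]
  let S := Localization.Away δ
  haveI : Algebra.Etale N.S S := Algebra.Etale.of_isLocalizationAway δ
  haveI : Algebra.Etale (MvPolynomial (Fin n) A) S := Algebra.Etale.comp (MvPolynomial (Fin n) A) N.S S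
  haveI : Algebra.Smooth A (MvPolynomial (Fin n) A) := ⟨inferInstance, inferInstance⟩
  haveI : Algebra.Smooth A S := Algebra.Smooth.comp A (MvPolynomial (Fin n) A) S
  haveI : IsScalarTower (MvPolynomial (Fin n) A) N.S S := inferInstance
  let lS := algebraMap N.S S
  let θ' : S →ₐ[A] C := IsLocalization.Away.liftAlgHom δ (f := θ) (by rw [hδ]; exact isUnit_one)
  have hθ' : ∀ x, θ' (lS x) = θ x := fun x =>
    IsLocalization.Away.lift_eq (S := S) δ (g := θ.toRingHom) (by
      show IsUnit (θ δ); rw [hδ]; exact isUnit_one) x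
  have hmap : ∀ k, KaehlerDifferential.map A A N.S S (coordBasis (A := A) (n := n) N.S k) = coordBasis (A := A) (n := n) S k := fun k => by
    rw [coordBasis_apply, coordBasis_apply, map_D, ← IsScalarTower.algebraMap_apply]
  let K : Ideal S := Ideal.span (Set.range (lS ∘ g))
  haveI hsm : Algebra.Smooth A (S ⧸ K) := by
    refine smooth_quotient (coordBasis (A := A) (n := n) S) (lS ∘ g) (E.map lS) ?_ ?_ (D.map lS) ?_ (Z₀.map lS) ?_
    · rw [← Matrix.map_mul, hEE]
    · funext i
      rw [← RingHom.map_mulVec]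
      exact congrArg lS (congrFun (show E.mulVec g = g by simp only [g, Matrix.mulVec_mulVec, hEE]) i)
    · intro i
      show KaehlerDifferential.D A S (lS (g i)) = _
      rw [← map_D A A N.S S, hDg, map_sum]
      refine Finset.sum_congr rfl fun k _ => ?_
      rw [map_smul, hmap, Matrix.map_apply, algebraMap_smul]
    · have : E.map lS * D.map lS * Z₀.map lS * E.map lS + (1 - E.map lS) = M.map lS := by
        simp [M, Matrix.map_add, Matrix.map_sub, Matrix.map_mul]
      rw [this, ← RingHom.mapMatrix_apply, ← RingHom.map_det]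
      exact IsLocalization.Away.algebraMap_isUnit δ
  -- the reduction
  let IS : Ideal S := I.map (algebraMap A S)
  let JS : Ideal S := J.map (algebraMap (MvPolynomial (Fin n) A) S)
  have hJSθ : RingHom.ker θ' ≤ JS := fun x hx => by
    obtain ⟨x, ⟨_, k, rfl⟩, rfl⟩ := IsLocalization.exists_mk'_eq (.powers δ) x
    have h := congrArg θ' (IsLocalization.mk'_spec S x (⟨δ ^ k, k, rfl⟩ : Submonoid.powers δ))
    rw [map_mul, RingHom.mem_ker.mp hx, zero_mul] at h
    have hx0 : x ∈ RingHom.ker θ := (hθ' x).symm.trans h.symm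
    show _ ∈ J.map (algebraMap (MvPolynomial (Fin n) A) S)
    rw [IsScalarTower.algebraMap_eq (MvPolynomial (Fin n) A) N.S S, ← Ideal.map_map,
      IsLocalization.mk'_mem_map_algebraMap_iff]
    exact ⟨1, Submonoid.one_mem _, by rw [one_mul]; exact hkθ.le hx0⟩
  have hθJS : JS ≤ RingHom.ker θ' := Ideal.map_le_iff_le_comap.mpr fun p hp => by
    rw [Ideal.mem_comap, RingHom.mem_ker, IsScalarTower.algebraMap_apply (MvPolynomial (Fin n) A) N.S S, hθ', hθ]
    exact hp
  have hIS : IP.map (algebraMap (MvPolynomial (Fin n) A) S) = IS := by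
    rw [Ideal.map_map, ← IsScalarTower.algebraMap_eq]
  have hISJ : IS ≤ JS := hIS.ge.trans (Ideal.map_mono hIJ)
  have hKJ : K ≤ JS := Ideal.span_le.mpr (by
    rintro _ ⟨i, rfl⟩
    refine hJSθ ?_
    show θ' (lS (g i)) = 0
    rw [hθ']
    simp only [g, Matrix.mulVec, dotProduct, map_sum, map_mul, Function.comp_apply, ι, hθ]
    exact Finset.sum_eq_zero fun j _ => by rw [show π (f j) = 0 from hfJ j, mul_zero])
  let L : Ideal S := K ⊔ IS ⊔ JS * JS
  have hJL : JS ≤ L := by
    have hJf : JS = Ideal.span (Set.range (algebraMap (MvPolynomial (Fin n) A) S ∘ f)) ⊔ IS := by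
      show J.map (algebraMap (MvPolynomial (Fin n) A) S) = _
      refine (congrArg (Ideal.map (algebraMap (MvPolynomial (Fin n) A) S)) hker).trans ?_
      rw [Ideal.map_sup, Ideal.map_span, ← Set.range_comp, hIS]
    rw [hJf]
    refine sup_le (Ideal.span_le.mpr ?_) (le_sup_right.trans le_sup_left)
    rintro _ ⟨i, rfl⟩
    show algebraMap (MvPolynomial (Fin n) A) S (f i) ∈ L
    have h1 : algebraMap (MvPolynomial (Fin n) A) S (f i - ∑ j, t i j * f j) ∈ L := by
      have hle : (J * J ⊔ IP).map (algebraMap (MvPolynomial (Fin n) A) S) ≤ L := by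
        rw [Ideal.map_sup, Ideal.map_mul, hIS]
        exact sup_le le_sup_right (le_sup_right.trans le_sup_left)
      exact hle (Ideal.mem_map_of_mem _ (hrel i))
    have h2 : ∀ j, (algebraMap (MvPolynomial (Fin n) A) S (t i j) - lS (E i j)) * algebraMap (MvPolynomial (Fin n) A) S (f j) ∈ L := fun j => by
      refine Ideal.mem_sup_right (Ideal.mul_mem_mul (hJSθ ?_) (Ideal.mem_map_of_mem _ (hfJ j)))
      rw [RingHom.mem_ker, map_sub, hθ', hθE, IsScalarTower.algebraMap_apply (MvPolynomial (Fin n) A) N.S S, hθ', hθ,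
        sub_self]
    have h3 : lS (g i) ∈ L :=
      Ideal.mem_sup_left (Ideal.mem_sup_left (Ideal.subset_span ⟨i, rfl⟩))
    have h4 := add_mem (add_mem h1 (Ideal.sum_mem L (fun j (_ : j ∈ Finset.univ) => h2 j))) h3
    convert h4 using 1
    simp only [g, Matrix.mulVec, dotProduct, Function.comp_apply, map_sub, map_sum, map_mul, lS, ι,
      sub_mul, Finset.sum_sub_distrib, ← IsScalarTower.algebraMap_apply (MvPolynomial (Fin n) A) N.S S]
    ring
  let Q := S ⧸ K
  let θQ : Q →ₐ[A] C := Ideal.Quotient.liftₐ K θ' fun x hx => hθJS (hKJ hx)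
  let KI : Ideal S := K ⊔ IS
  let μ := Ideal.Quotient.mk KI
  have hidem : IsIdempotentElem (JS.map μ) := by
    refine le_antisymm Ideal.mul_le_right ?_
    refine (Ideal.map_mono hJL).trans ?_
    rw [Ideal.map_sup, Ideal.map_quotient_self, bot_sup_eq, Ideal.map_mul]
  have hfg : (JS.map μ).FG := by
    refine ⟨Finset.univ.image (μ ∘ algebraMap (MvPolynomial (Fin n) A) S ∘ f), ?_⟩
    show Ideal.span _ = (J.map (algebraMap (MvPolynomial (Fin n) A) S)).map μ
    rw [congrArg (Ideal.map (algebraMap (MvPolynomial (Fin n) A) S)) (show J = _ from hker), Ideal.map_sup, Ideal.map_sup, Ideal.map_span, Ideal.map_span,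
      ← Set.range_comp, ← Set.range_comp, hIS,
      show IS.map μ = ⊥ from le_bot_iff.mp ((Ideal.map_mono le_sup_right).trans
        (Ideal.map_quotient_self KI).le), sup_bot_eq]
    simp
    rfl
  obtain ⟨eb, heb, hspan⟩ := (Ideal.isIdempotentElem_iff_of_fg _ hfg).mp hidem
  obtain ⟨e, rfl⟩ := Ideal.Quotient.mk_surjective eb
  have heJ : e ∈ JS := by
    have : μ e ∈ JS.map μ := hspan ▸ Ideal.mem_span_singleton_self _
    exact (Ideal.mem_quotient_iff_mem (sup_le hKJ hISJ)).mp this
  let h : S := 1 - e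
  have hh : ∀ x ∈ JS, h * x ∈ KI := fun x hx => by
    have hx' : μ x ∈ Submodule.span (S ⧸ KI) {μ e} := hspan ▸ Ideal.mem_map_of_mem μ hx
    obtain ⟨w, hw⟩ := Submodule.mem_span_singleton.mp hx'
    rw [← Ideal.Quotient.eq_zero_iff_mem]
    show μ ((1 - e) * x) = 0
    rw [map_mul, map_sub, map_one, ← hw, smul_eq_mul, sub_mul, one_mul, mul_left_comm, heb.eq,
      sub_self]
  let hQ : Q := Ideal.Quotient.mk K h
  have hθh : θQ hQ = 1 := by
    show θ' (1 - e) = 1
    rw [map_sub, map_one, show θ' e = 0 from hθJS heJ, sub_zero]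
  let R := Localization.Away hQ
  haveI : Algebra.Etale Q R := Algebra.Etale.of_isLocalizationAway hQ
  haveI : Algebra.Smooth A R := Algebra.Smooth.comp A Q R
  let φ : R →ₐ[A] C := IsLocalization.Away.liftAlgHom hQ (f := θQ) (by rw [hθh]; exact isUnit_one)
  have hφ : ∀ x, φ (algebraMap Q R x) = θQ x := fun x =>
    IsLocalization.Away.lift_eq (S := R) hQ (g := θQ.toRingHom) (by
      show IsUnit (θQ hQ); rw [hθh]; exact isUnit_one) x
  refine ⟨R, inferInstance, inferInstance, inferInstance, φ, fun y => ?_, le_antisymm (fun x hx => ?_)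
    (Ideal.map_le_iff_le_comap.mpr fun x hx => ?_)⟩
  · obtain ⟨p, rfl⟩ := hπ y
    refine ⟨algebraMap Q R (Ideal.Quotient.mk K (algebraMap (MvPolynomial (Fin n) A) S p)), ?_⟩
    rw [hφ]
    show θ' (algebraMap (MvPolynomial (Fin n) A) S p) = π p
    rw [IsScalarTower.algebraMap_apply (MvPolynomial (Fin n) A) N.S S, hθ', hθ]
  · obtain ⟨x, ⟨_, k, rfl⟩, rfl⟩ := IsLocalization.exists_mk'_eq (.powers hQ) x
    have h0 := congrArg φ (IsLocalization.mk'_spec R x (⟨hQ ^ k, k, rfl⟩ : Submonoid.powers hQ))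
    rw [map_mul, RingHom.mem_ker.mp hx, zero_mul, hφ] at h0
    obtain ⟨x, rfl⟩ := Ideal.Quotient.mk_surjective x
    rw [IsScalarTower.algebraMap_eq A Q R, ← Ideal.map_map,
      IsLocalization.mk'_mem_map_algebraMap_iff]
    refine ⟨hQ, ⟨1, pow_one _⟩, ?_⟩
    have h1 := Ideal.mem_map_of_mem (Ideal.Quotient.mk K) (hh x (hJSθ h0.symm))
    rw [Ideal.map_sup, Ideal.map_quotient_self, bot_sup_eq, Ideal.map_map] at h1
    exact h1
  · rw [Ideal.mem_comap, RingHom.mem_ker, AlgHom.commutes, IsScalarTower.algebraMap_apply A (A ⧸ I) C,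
      Ideal.Quotient.algebraMap_eq, Ideal.Quotient.eq_zero_iff_mem.mpr hx, map_zero]

end Main

end Groth.Agent.SmoothAlgLift6
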